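import Groth.Prelude.Def_LefPen
import Mathlib

/-!
Closure properties of `LefPen.IsPolyFun` / `LefPen.IsGeneric`.
-/

set_option autoImplicit false
universe u

namespace Groth.Agent.H25Param
open MvPolynomial LefPen

variable {k : Type u} [Field k] {V : Type u} [AddCommGroup V] [Module k V]

theorem isPolyFun_linear (l : Module.Dual k V) : IsPolyFun k (l : V → k) :=
  Algebra.subset_adjoin ⟨l, rfl⟩

/-- a polynomial in linear forms is a polynomial function. -/
theorem isPolyFun_eval {ι : Type*} (l : ι → Module.Dual k V) (Q : MvPolynomial ι k) :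
    IsPolyFun k (fun v => eval (fun i => l i v) Q) := by
  induction Q using MvPolynomial.induction_on with
  | C a =>
    have : (fun v : V => eval (fun i => l i v) (C a)) = algebraMap k (V → k) a := by ext v; simp
    unfold IsPolyFun; rw [this]; exact Subalgebra.algebraMap_mem _ a
  | add p q hp hq =>
    have : (fun v : V => eval (fun i => l i v) (p + q)) =
        (fun v => eval (fun i => l i v) p) + fun v => eval (fun i => l i v) q := by ext v; simp
    unfold IsPolyFun at *; rw [this]; exact Subalgebra.add_mem _ hp hq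
  | mul_X p i hp =>
    have : (fun v : V => eval (fun i => l i v) (p * X i)) =
        (fun v => eval (fun i => l i v) p) * (l i : V → k) := by ext v; simp
    unfold IsPolyFun at *; rw [this]
    exact Subalgebra.mul_mem _ hp (Algebra.subset_adjoin ⟨l i, rfl⟩)

/-- every polynomial function is a polynomial in the coordinates of a finite basis. -/
theorem exists_eval_of_isPolyFun {ι : Type*} [Fintype ι] (b : Module.Basis ι k V) {f : V → k}
    (hf : IsPolyFun k f) : ∃ Q : MvPolynomial ι k, ∀ v, f v = eval (fun i => b.repr v i) Q := by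
  classical
  induction hf using Algebra.adjoin_induction with
  | mem g hg =>
    obtain ⟨l, rfl⟩ := hg
    refine ⟨∑ i, C (l (b i)) * X i, fun v => ?_⟩
    have h := congrArg (fun w => l w) (b.sum_repr v).symm
    simp only [map_sum, map_smul, smul_eq_mul] at h
    refine h.trans ?_
    simp [mul_comm]
  | algebraMap c => exact ⟨C c, fun v => by simp⟩
  | add x y _ _ hx hy =>
    obtain ⟨P, hP⟩ := hx; obtain ⟨Q, hQ⟩ := hy
    exact ⟨P + Q, fun v => by simp [hP, hQ]⟩
  | mul x y _ _ hx hy =>
    obtain ⟨P, hP⟩ := hx; obtain ⟨Q, hQ⟩ := hy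
    exact ⟨P * Q, fun v => by simp [hP, hQ]⟩

/-- the non-vanishing locus of a nonzero polynomial in coordinates is generic. -/
theorem isGeneric_of_eval [Infinite k] {ι : Type*} [Fintype ι] (b : Module.Basis ι k V)
    {S : Set V} (Q : MvPolynomial ι k) (hQ : Q ≠ 0)
    (h : ∀ v, eval (fun i => b.repr v i) Q ≠ 0 → v ∈ S) : IsGeneric k S := by
  refine ⟨fun v => eval (fun i => b.repr v i) Q, isPolyFun_eval (fun i => b.coord i) Q, ?_, h⟩
  obtain ⟨y, hy⟩ : ∃ y, eval y Q ≠ 0 := by
    by_contra! hc
    exact hQ (MvPolynomial.funext fun y => by simpa using hc y)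
  refine ⟨b.equivFun.symm y, ?_⟩
  have : (fun i => b.repr (b.equivFun.symm y) i) = y := by
    ext i
    rw [← b.equivFun_apply, LinearEquiv.apply_symm_apply]
  change eval (fun i => b.repr (b.equivFun.symm y) i) Q ≠ 0
  rw [this]
  exact hy

theorem isGeneric_mono {S T : Set V} (h : S ⊆ T) (hS : IsGeneric k S) : IsGeneric k T := by
  obtain ⟨f, hf, hne, hS⟩ := hS
  exact ⟨f, hf, hne, fun v hv => h (hS v hv)⟩

theorem isGeneric_univ : IsGeneric k (Set.univ : Set V) :=
  ⟨1, Subalgebra.one_mem _, ⟨0, by simp⟩, fun _ _ => trivial⟩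

/-- generic sets are stable under intersection. -/
theorem isGeneric_inter [Infinite k] [FiniteDimensional k V] {S T : Set V} (hS : IsGeneric k S)
    (hT : IsGeneric k T) : IsGeneric k (S ∩ T) := by
  classical
  let b := Module.finBasis k V
  obtain ⟨f, hf, ⟨v₁, h₁⟩, hS⟩ := hS
  obtain ⟨g, hg, ⟨v₂, h₂⟩, hT⟩ := hT
  obtain ⟨P, hP⟩ := exists_eval_of_isPolyFun b hf
  obtain ⟨Q, hQ⟩ := exists_eval_of_isPolyFun b hg
  have hP0 : P ≠ 0 := by rintro rfl; exact h₁ (by simp [hP])
  have hQ0 : Q ≠ 0 := by rintro rfl; exact h₂ (by simp [hQ])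
  refine isGeneric_of_eval b (P * Q) (mul_ne_zero hP0 hQ0) fun v hv => ?_
  rw [map_mul] at hv
  exact ⟨hS v (by rw [hP]; exact left_ne_zero_of_mul hv),
    hT v (by rw [hQ]; exact right_ne_zero_of_mul hv)⟩

theorem isGeneric_iInter [Infinite k] [FiniteDimensional k V] {ι : Type*} [Finite ι]
    {S : ι → Set V} (hS : ∀ i, IsGeneric k (S i)) : IsGeneric k (⋂ i, S i) := by
  classical
  haveI := Fintype.ofFinite ι
  have : ∀ s : Finset ι, IsGeneric k (⋂ i ∈ s, S i) := by
    intro s
    induction s using Finset.induction with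
    | empty => simpa using isGeneric_univ
    | insert a s _ ih => simpa using isGeneric_inter (hS a) ih
  simpa using this Finset.univ

end Groth.Agent.H25Param
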