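import Mathlib

/-!
Parameter counts via transcendence degree: the image of the `k`-points of an algebra of
transcendence degree `< N` in `k^N` lies in a hypersurface; for `≤ N` general fibres are finite.
-/

set_option autoImplicit false
universe u

namespace Groth.Agent.H25Param
open MvPolynomial

variable {k : Type u} [Field k] {R : Type u} [CommRing R] [Algebra k R]

theorem eval_comp_point {ι : Type*} (f : ι → R) (p : R →ₐ[k] k) (Q : MvPolynomial ι k) :
    eval (fun i => p (f i)) Q = p (aeval f Q) := by
  change aeval (fun i => p (f i)) Q = _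
  rw [← comp_aeval]; rfl

/-- fewer parameters than coordinates: the image is contained in a hypersurface. -/
theorem exists_avoid {ι : Type} [Fintype ι] (f : ι → R)
    (h : Algebra.trdeg k R < Fintype.card ι) :
    ∃ Q : MvPolynomial ι k, Q ≠ 0 ∧ ∀ p : R →ₐ[k] k, eval (fun i => p (f i)) Q = 0 := by
  have hdep : ¬ AlgebraicIndependent k f := by
    intro hi
    have := hi.lift_cardinalMk_le_trdeg
    rw [Cardinal.mk_fintype, Cardinal.lift_natCast, Cardinal.lift_uzero] at this
    exact absurd (this.trans_lt h) (lt_irrefl _)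
  rw [algebraicIndependent_iff] at hdep
  push Not at hdep
  obtain ⟨Q, hQ, hQ0⟩ := hdep
  exact ⟨Q, hQ0, fun p => by rw [eval_comp_point, hQ, map_zero]⟩

/-- as many parameters as coordinates: off a hypersurface, the fibres are finite. -/
theorem exists_finite [Algebra.FiniteType k R] {ι : Type} [Fintype ι] (f : ι → R)
    (h : Algebra.trdeg k R ≤ Fintype.card ι) :
    ∃ Q : MvPolynomial ι k, Q ≠ 0 ∧
      ∀ y, eval y Q ≠ 0 → {p : R →ₐ[k] k | ∀ i, p (f i) = y i}.Finite := by
  classical
  by_cases hi : AlgebraicIndependent k f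
  · obtain ⟨G, hG⟩ := (inferInstance : Algebra.FiniteType k R).out
    have key : ∀ g : R, ∃ c : MvPolynomial ι k, c ≠ 0 ∧ ∀ y, eval y c ≠ 0 →
        {x : k | ∃ p : R →ₐ[k] k, (∀ i, p (f i) = y i) ∧ p g = x}.Finite := by
      intro g
      have hlt : Algebra.trdeg k R < Fintype.card (Option ι) := by
        refine h.trans_lt ?_
        rw [Fintype.card_option]; exact_mod_cast Nat.lt_succ_self _
      obtain ⟨P, hP0, hP⟩ := exists_avoid (fun o : Option ι => o.elim g f) hlt
      let P' := optionEquivLeft k ι P
      have hP' : P' ≠ 0 := by simpa [P'] using hP0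
      refine ⟨P'.leadingCoeff, Polynomial.leadingCoeff_ne_zero.mpr hP', fun y hy => ?_⟩
      have hne : P'.map (eval y) ≠ 0 := fun h0 => hy (by
        rw [Polynomial.leadingCoeff, ← Polynomial.coeff_map, h0, Polynomial.coeff_zero])
      refine (Polynomial.finite_setOf_isRoot hne).subset ?_
      rintro x ⟨p, hp, rfl⟩
      have := hP p
      have he : (fun o : Option ι => p (o.elim g f)) = fun o => o.elim (p g) y := by
        ext o; cases o <;> simp [hp]
      rw [he, optionEquivLeft_elim_eval] at this
      exact this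
    choose c hc0 hc using key
    refine ⟨∏ g ∈ G, c g, Finset.prod_ne_zero_iff.mpr fun g _ => hc0 g, fun y hy => ?_⟩
    rw [map_prod, Finset.prod_ne_zero_iff] at hy
    let Φ : (R →ₐ[k] k) → (↥G → k) := fun p g => p g
    have hΦ : Function.Injective Φ := fun p q hpq =>
      AlgHom.ext_of_adjoin_eq_top hG fun g hg => congrFun hpq ⟨g, hg⟩
    have hfin : (Set.univ.pi fun g : ↥G =>
        {x : k | ∃ p : R →ₐ[k] k, (∀ i, p (f i) = y i) ∧ p g = x}).Finite :=
      Set.Finite.pi fun g => hc _ y (hy _ g.2)
    refine (hfin.preimage hΦ.injOn).subset fun p hp => ?_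
    intro g _
    exact ⟨p, hp, rfl⟩
  · rw [algebraicIndependent_iff] at hi
    push Not at hi
    obtain ⟨Q, hQ, hQ0⟩ := hi
    refine ⟨Q, hQ0, fun y hy => ?_⟩
    convert Set.finite_empty
    refine Set.eq_empty_of_forall_notMem fun p hp => hy ?_
    have : (fun i => p (f i)) = y := funext hp
    rw [← this, eval_comp_point, hQ, map_zero]

end Groth.Agent.H25Param
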