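import Groth.Agent.H25Param.PolyFun
import Groth.Agent.H25Param.Count

/-!
Incidence parameter count: `L : V → R^κ` linear, `p ↦ (L at p)` a family of linear maps over the
points of `R`.  If `trdeg R < #κ`, a general `v` is in no kernel of a surjective member; if
`trdeg R ≤ #κ`, a general `v` is in finitely many.
-/

set_option autoImplicit false
universe u

namespace Groth.Agent.H25Param
open MvPolynomial LefPen

variable {k : Type u} [Field k] {R : Type u} [CommRing R] [Algebra k R]
  {V : Type u} [AddCommGroup V] [Module k V] {κ : Type*}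

/-- the member at the point `p` of the family `L`. -/
def evalAt (L : V →ₗ[k] κ → R) (p : R →ₐ[k] k) : V →ₗ[k] κ → k :=
  (p.toLinearMap.compLeft κ) ∘ₗ L

@[simp]
theorem evalAt_apply (L : V →ₗ[k] κ → R) (p : R →ₐ[k] k) (v : V) (j : κ) :
    evalAt L p v j = p (L v j) := rfl

theorem trdeg_mvPolynomial [IsDomain R] [FaithfulSMul k R] (t : Type) [Fintype t] :
    Algebra.trdeg k (MvPolynomial t R) = Algebra.trdeg k R + (Fintype.card t : Cardinal.{u}) := by
  rw [← trdeg_add_eq k R (A := MvPolynomial t R), MvPolynomial.trdeg_of_isDomain,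
    Cardinal.mk_fintype, Cardinal.lift_natCast]

section Chart

variable [Fintype κ] [DecidableEq κ] {N : ℕ} (b : Module.Basis (Fin N) k V)

omit [DecidableEq κ] in
theorem exists_pivot (L : V →ₗ[k] κ → R) (p : R →ₐ[k] k)
    (hp : Function.Surjective (evalAt L p)) :
    ∃ S : κ ↪ Fin N, LinearIndependent k fun j => evalAt L p (b (S j)) := by
  classical
  have hspan : Submodule.span k (Set.range fun i => evalAt L p (b i)) = ⊤ := by
    rw [Set.range_comp' (evalAt L p) b, Submodule.span_image, b.span_eq, Submodule.map_top,
      LinearMap.range_eq_top.mpr hp]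
  obtain ⟨f, hf, -, hli⟩ := Submodule.exists_fun_fin_finrank_span_eq k
    (Set.range fun i => evalAt L p (b i))
  have hdim : Module.finrank k (Submodule.span k (Set.range fun i => evalAt L p (b i))) =
      Fintype.card κ := by
    rw [hspan, finrank_top, Module.finrank_pi]
  let e : κ ≃ Fin (Module.finrank k (Submodule.span k (Set.range fun i => evalAt L p (b i)))) :=
    (Fintype.equivFin κ).trans (finCongr hdim.symm)
  choose g hg using hf
  have hginj : Function.Injective g := fun i i' h => hli.injective (by rw [← hg, ← hg, h])
  refine ⟨⟨fun j => g (e j), fun j j' h => e.injective (hginj h)⟩, ?_⟩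
  have : (fun j => evalAt L p (b (g (e j)))) = f ∘ e := funext fun j => hg (e j)
  change LinearIndependent k fun j => evalAt L p (b (g (e j)))
  rw [this]
  exact hli.comp _ e.injective

/-- the pivot square of `L`. -/
noncomputable def pivotMat (L : V →ₗ[k] κ → R) (S : κ ↪ Fin N) : Matrix κ κ R :=
  Matrix.of fun j' j => L (b (S j)) j'

open scoped Classical in
/-- generic free vector in the complementary coordinates, pushed through `L`. -/
noncomputable def freeImage (L : V →ₗ[k] κ → R) (S : κ ↪ Fin N) :
    κ → MvPolynomial {l : Fin N // l ∉ Set.range S} R :=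
  fun j' => ∑ l : {l : Fin N // l ∉ Set.range S}, C (L (b l) j') * X l

open scoped Classical in
/-- generic kernel vector (in coordinates) for the pivot `S`. -/
noncomputable def kernelVec (L : V →ₗ[k] κ → R) (S : κ ↪ Fin N) :
    Fin N → MvPolynomial {l : Fin N // l ∉ Set.range S} R :=
  fun i => if h : i ∈ Set.range S then
      - ∑ j', C ((pivotMat b L S).adjugate (Classical.choose h) j') * freeImage b L S j'
    else C (pivotMat b L S).det * X ⟨i, h⟩

open scoped Classical in
/-- every kernel vector at a point where the pivot is invertible is a value of `kernelVec`. -/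
theorem exists_kernelVec_eq (L : V →ₗ[k] κ → R) (S : κ ↪ Fin N) (p : R →ₐ[k] k)
    (hS : LinearIndependent k fun j => evalAt L p (b (S j))) (v : V) (hv : evalAt L p v = 0) :
    ∃ q : MvPolynomial {l : Fin N // l ∉ Set.range S} R →ₐ[k] k,
      (∀ r, q (C r) = p r) ∧ ∀ i, q (kernelVec b L S i) = b.repr v i := by
  let M : Matrix κ κ k := (pivotMat b L S).map p
  have hM : M.det ≠ 0 := by
    have hc : LinearIndependent k M.col := hS
    rw [Matrix.linearIndependent_cols_iff_isUnit, Matrix.isUnit_iff_isUnit_det] at hc
    exact hc.ne_zero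
  let D := M.det
  let t : {l : Fin N // l ∉ Set.range S} → k := fun l => D⁻¹ * b.repr v l
  refine ⟨aevalTower p t, fun r => aevalTower_C _ _ _, fun i => ?_⟩
  have hdet : p (pivotMat b L S).det = D := by
    simp [D, M, AlgHom.map_det, AlgHom.mapMatrix_apply]
  have hadj : ∀ j j', p ((pivotMat b L S).adjugate j j') = M.adjugate j j' := by
    intro j j'
    have := congrFun (congrFun (AlgHom.map_adjugate p (pivotMat b L S)) j) j'
    simpa [M, AlgHom.mapMatrix_apply] using this
  by_cases h : i ∈ Set.range S
  · simp only [kernelVec, dif_pos h, map_neg, map_sum, map_mul, aevalTower_C, freeImage,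
      aevalTower_X, hadj]
    set z : κ → k := fun j => b.repr v (S j) with hz
    have hMz : ∀ j', (M.mulVec z) j' + ∑ l : {l : Fin N // l ∉ Set.range S},
        p (L (b l) j') * b.repr v l = 0 := by
      intro j'
      have h0 : ∑ i, b.repr v i * p (L (b i) j') = 0 := by
        have h1 := congrArg (fun w => evalAt L p w j') (b.sum_repr v)
        simp only [map_sum, map_smul, Finset.sum_apply, Pi.smul_apply, evalAt_apply,
          smul_eq_mul] at h1
        exact h1.trans (congrFun hv j')
      rw [← Fintype.sum_subtype_add_sum_subtype (fun i => i ∈ Set.range S)] at h0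
      convert h0 using 2
      · rw [Matrix.mulVec, dotProduct]
        letI : Fintype {x // x ∈ Set.range S} := Set.fintypeRange S
        refine (Fintype.sum_equiv (Equiv.ofInjective S S.injective) _
          (fun x => b.repr v x.1 * p (L (b x.1) j')) fun j => ?_).trans
          (Finset.sum_congr (Finset.ext fun x => by simp) fun _ _ => rfl)
        simp [M, pivotMat, hz, mul_comm]
      · exact Finset.sum_congr rfl fun l _ => mul_comm _ _
    set j := Classical.choose h
    have hj : S j = i := Classical.choose_spec h
    have hzj : ∀ j', ∑ l : {l : Fin N // l ∉ Set.range S}, p (L (b l) j') * t l =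
        - D⁻¹ * (M.mulVec z) j' := by
      intro j'
      have h1 : ∀ l : {l : Fin N // l ∉ Set.range S},
          p (L (b l) j') * t l = D⁻¹ * (p (L (b l) j') * b.repr v l) := fun l => by
        simp only [t]; ring
      simp only [h1, ← Finset.mul_sum, eq_neg_of_add_eq_zero_right (hMz j')]
      ring
    simp only [hzj]
    have hadjmul : ∑ j', M.adjugate j j' * (M.mulVec z) j' = D * z j := by
      have : (M.adjugate.mulVec (M.mulVec z)) j = (D • z) j := by
        rw [Matrix.mulVec_mulVec, Matrix.adjugate_mul, Matrix.smul_mulVec, Matrix.one_mulVec]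
      exact this
    calc -∑ j', M.adjugate j j' * (-D⁻¹ * (M.mulVec z) j')
        = D⁻¹ * ∑ j', M.adjugate j j' * (M.mulVec z) j' := by
          rw [Finset.mul_sum, ← Finset.sum_neg_distrib]
          exact Finset.sum_congr rfl fun j' _ => by ring
      _ = b.repr v i := by rw [hadjmul, ← mul_assoc, inv_mul_cancel₀ hM, one_mul, hz, ← hj]
  · simp only [kernelVec, dif_neg h, map_mul, aevalTower_C, aevalTower_X, hdet, t]
    rw [← mul_assoc, mul_inv_cancel₀ hM, one_mul]

end Chart

open scoped Classical in
/-- fewer parameters than conditions: a general vector is in no kernel of a surjective member. -/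
theorem isGeneric_avoid_incidence [Infinite k] [IsDomain R] [FaithfulSMul k R]
    [FiniteDimensional k V] [Fintype κ] (L : V →ₗ[k] κ → R)
    (h : Algebra.trdeg k R < Fintype.card κ) :
    IsGeneric k {v | ∀ p : R →ₐ[k] k, Function.Surjective (evalAt L p) → evalAt L p v ≠ 0} := by
  let b := Module.finBasis k V
  have key : ∀ S : κ ↪ Fin (Module.finrank k V), IsGeneric k {v | ∀ p : R →ₐ[k] k,
      LinearIndependent k (fun j => evalAt L p (b (S j))) → evalAt L p v ≠ 0} := by
    intro S
    obtain ⟨Q, hQ0, hQ⟩ := exists_avoid (k := k) (kernelVec b L S) (by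
      rw [trdeg_mvPolynomial, Fintype.card_subtype_compl, Fintype.card_fin]
      have hle : Fintype.card κ ≤ Module.finrank k V := by
        simpa using Fintype.card_le_of_embedding S
      have hcard : Fintype.card {l : Fin (Module.finrank k V) // l ∈ Set.range S} =
          Fintype.card κ := Set.card_range_of_injective S.injective
      rw [hcard]
      obtain ⟨c, hc⟩ := Cardinal.lt_aleph0.mp (h.trans (Cardinal.natCast_lt_aleph0))
      rw [hc] at h ⊢
      rw [← Nat.cast_add, Nat.cast_lt]
      have : c < Fintype.card κ := by exact_mod_cast h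
      omega)
    refine isGeneric_of_eval b Q hQ0 fun v hv p hp h0 => hv ?_
    obtain ⟨q, -, hq⟩ := exists_kernelVec_eq b L S p hp v h0
    have := hQ q
    simp only [hq] at this
    exact this
  refine isGeneric_mono ?_ (isGeneric_iInter key)
  intro v hv p hp
  obtain ⟨S, hS⟩ := exists_pivot b L p hp
  exact Set.mem_iInter.mp hv S p hS

open scoped Classical in
/-- as many parameters as conditions: a general vector is in finitely many kernels. -/
theorem isGeneric_finite_incidence [Infinite k] [IsDomain R] [FaithfulSMul k R]
    [Algebra.FiniteType k R] [FiniteDimensional k V] [Fintype κ] (L : V →ₗ[k] κ → R)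
    (h : Algebra.trdeg k R ≤ Fintype.card κ) :
    IsGeneric k {v | {p : R →ₐ[k] k |
      Function.Surjective (evalAt L p) ∧ evalAt L p v = 0}.Finite} := by
  let b := Module.finBasis k V
  have key : ∀ S : κ ↪ Fin (Module.finrank k V), IsGeneric k {v | {p : R →ₐ[k] k |
      LinearIndependent k (fun j => evalAt L p (b (S j))) ∧ evalAt L p v = 0}.Finite} := by
    intro S
    haveI : Algebra.FiniteType k
        (MvPolynomial {l : Fin (Module.finrank k V) // l ∉ Set.range S} R) :=
      Algebra.FiniteType.trans (S := R) inferInstance inferInstance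
    obtain ⟨Q, hQ0, hQ⟩ := exists_finite (k := k) (kernelVec b L S) (by
      rw [trdeg_mvPolynomial, Fintype.card_subtype_compl, Fintype.card_fin]
      have hle : Fintype.card κ ≤ Module.finrank k V := by
        simpa using Fintype.card_le_of_embedding S
      have hcard : Fintype.card {l : Fin (Module.finrank k V) // l ∈ Set.range S} =
          Fintype.card κ := Set.card_range_of_injective S.injective
      rw [hcard]
      obtain ⟨c, hc⟩ := Cardinal.lt_aleph0.mp (h.trans_lt (Cardinal.natCast_lt_aleph0))
      rw [hc] at h ⊢
      rw [← Nat.cast_add, Nat.cast_le]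
      have : c ≤ Fintype.card κ := by exact_mod_cast h
      omega)
    refine isGeneric_of_eval b Q hQ0 fun v hv => ?_
    refine Set.Finite.subset ((hQ _ hv).image (fun q : MvPolynomial _ R →ₐ[k] k =>
      q.comp (IsScalarTower.toAlgHom k R _))) ?_
    rintro p ⟨hp, h0⟩
    obtain ⟨q, hqC, hq⟩ := exists_kernelVec_eq b L S p hp v h0
    exact ⟨q, hq, AlgHom.ext fun r => by simpa using hqC r⟩
  refine isGeneric_mono ?_ (isGeneric_iInter key)
  intro v hv
  refine Set.Finite.subset (Set.finite_iUnion fun S => Set.mem_iInter.mp hv S) ?_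
  rintro p ⟨hp, h0⟩
  obtain ⟨S, hS⟩ := exists_pivot b L p hp
  exact Set.mem_iUnion.mpr ⟨S, hS, h0⟩

end Groth.Agent.H25Param
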